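import Groth.Agent.NilCone31.Triang
import Groth.Agent.E4O.DimField
import Mathlib.LinearAlgebra.Matrix.Charpoly.Coeff
import Mathlib.LinearAlgebra.Matrix.MvPolynomial
import Mathlib.LinearAlgebra.Matrix.NonsingularInverse
import Mathlib.RingTheory.Nullstellensatz
import Mathlib.RingTheory.Ideal.KrullsHeightTheorem
import Mathlib.RingTheory.Spectrum.Prime.Topology
import Mathlib.RingTheory.KrullDimension.NonZeroDivisors

/-!
The nilpotent cone in the space of `n × n` matrices.
-/

set_option autoImplicit false
universe u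

namespace Groth.Agent.NilCone31

open MvPolynomial

variable (k : Type u) [Field k] (n : ℕ)

/-- The ideal of the coefficients of the characteristic polynomial. -/
noncomputable abbrev cI : Ideal (MvPolynomial (Fin n × Fin n) k) :=
  Ideal.span (Set.range (fun i : Fin n =>
    (Matrix.charpoly (Matrix.mvPolynomialX (Fin n) (Fin n) k)).coeff (i : ℕ)))

variable {k n}

theorem cI_le_ker_iff {R : Type u} [CommRing R] [Nontrivial R]
    (φ : MvPolynomial (Fin n × Fin n) k →+* R) :
    cI k n ≤ RingHom.ker φ ↔
      (Matrix.of fun i j => φ (X (i, j))).charpoly = Polynomial.X ^ n := by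
  have hM : (Matrix.mvPolynomialX (Fin n) (Fin n) k).map φ = Matrix.of fun i j => φ (X (i, j)) := rfl
  rw [← hM, Matrix.charpoly_map, cI, Ideal.span_le, Set.range_subset_iff]
  set c := Matrix.charpoly (Matrix.mvPolynomialX (Fin n) (Fin n) k) with hc
  have hm : c.Monic := Matrix.charpoly_monic _
  have hd : c.natDegree = n := by simp [hc, Matrix.charpoly_natDegree_eq_dim]
  constructor
  · intro h
    ext i
    rcases lt_trichotomy i n with hi | hi | hi
    · rw [Polynomial.coeff_map, Polynomial.coeff_X_pow, if_neg hi.ne]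
      exact h ⟨i, hi⟩
    · have h1 : c.coeff i = 1 := by
        rw [hi, ← congrArg c.coeff hd]; exact hm.coeff_natDegree
      rw [Polynomial.coeff_map, Polynomial.coeff_X_pow, if_pos hi, h1, map_one]
    · rw [Polynomial.coeff_map, Polynomial.coeff_X_pow, if_neg hi.ne',
        Polynomial.coeff_eq_zero_of_natDegree_lt (hd.symm ▸ hi), map_zero]
  · intro h i
    change φ (c.coeff i) = 0
    rw [← Polynomial.coeff_map, h, Polynomial.coeff_X_pow, if_neg i.2.ne]

theorem charpoly_strict {R : Type u} [CommRing R] (U : Matrix (Fin n) (Fin n) R)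
    (hU : ∀ i j, j ≤ i → U i j = 0) : U.charpoly = Polynomial.X ^ n := by
  rw [Matrix.charpoly_of_isUpperTriangular U fun i j h => hU i j (le_of_lt h)]
  simp [hU _ _ le_rfl]

theorem isNilpotent_of_charpoly {R : Type u} [CommRing R] (N : Matrix (Fin n) (Fin n) R)
    (h : N.charpoly = Polynomial.X ^ n) : IsNilpotent N :=
  ⟨n, by simpa [h] using N.aeval_self_charpoly⟩

variable (k n)

/-- The variables: an invertible matrix and a strictly upper triangular one. -/
noncomputable abbrev Par := MvPolynomial ((Fin n × Fin n) ⊕ (Fin n × Fin n)) k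

/-- The generic base change matrix. -/
noncomputable def G : Matrix (Fin n) (Fin n) (Par k n) := Matrix.of fun i j => X (Sum.inl (i, j))

/-- The generic strictly upper triangular matrix. -/
noncomputable def U : Matrix (Fin n) (Fin n) (Par k n) :=
  Matrix.of fun i j => if j ≤ i then 0 else X (Sum.inr (i, j))

theorem det_G_ne_zero : (G k n).det ≠ 0 := by
  intro h
  have h1 := congrArg (MvPolynomial.eval (Sum.elim (fun p => (1 : Matrix (Fin n) (Fin n) k) p.1 p.2) 0)) h
  rw [map_zero, RingHom.map_det] at h1
  have : (MvPolynomial.eval (Sum.elim (fun p => (1 : Matrix (Fin n) (Fin n) k) p.1 p.2) 0)).mapMatrix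
      (G k n) = 1 := by
    ext i j
    simp [G]
  rw [this, Matrix.det_one] at h1
  exact one_ne_zero h1

/-- The parameter ring. -/
abbrev L := Localization.Away (G k n).det

instance : IsDomain (L k n) :=
  IsLocalization.isDomain_localization (powers_le_nonZeroDivisors_of_noZeroDivisors (det_G_ne_zero k n))

/-- The matrix `G U G⁻¹`. -/
noncomputable def M : Matrix (Fin n) (Fin n) (L k n) :=
  (G k n).map (algebraMap _ (L k n)) * (U k n).map (algebraMap _ (L k n)) *
    ((G k n).map (algebraMap _ (L k n)))⁻¹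

/-- The parametrisation. -/
noncomputable def par : MvPolynomial (Fin n × Fin n) k →ₐ[k] L k n :=
  MvPolynomial.aeval fun p => M k n p.1 p.2

/-- The prime ideal of the nilpotent cone. -/
noncomputable def P : Ideal (MvPolynomial (Fin n × Fin n) k) := RingHom.ker (par k n).toRingHom

theorem isPrime_P : (P k n).IsPrime := RingHom.ker_isPrime _

theorem cI_le_P : cI k n ≤ P k n := by
  rw [P, cI_le_ker_iff]
  have hu : IsUnit ((G k n).map (algebraMap _ (L k n))) := by
    rw [Matrix.isUnit_iff_isUnit_det]
    have := IsLocalization.Away.algebraMap_isUnit (S := L k n) (G k n).det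
    rwa [RingHom.map_det] at this
  have hM : (Matrix.of fun i j => (par k n).toRingHom (X (i, j))) = M k n := by
    ext i j
    simp [par]
  rw [hM, M]
  obtain ⟨g, hg⟩ := hu
  rw [← hg, ← Matrix.coe_units_inv, Matrix.coe_units_inv, Matrix.charpoly_units_conj]
  exact charpoly_strict _ fun i j h => by simp [U, h]

variable {k n}

theorem aeval_eq_zero_of_mem_P [IsAlgClosed k] {p : MvPolynomial (Fin n × Fin n) k} (hp : p ∈ P k n)
    (x : Fin n × Fin n → k) (hx : IsNilpotent (Matrix.of fun i j => x (i, j))) :
    MvPolynomial.aeval x p = 0 := by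
  obtain ⟨g, g', U', hgg, hU, hN⟩ := exists_conj_strict _ hx
  let ev : Par k n →ₐ[k] k :=
    MvPolynomial.aeval (Sum.elim (fun q => g q.1 q.2) (fun q => U' q.1 q.2))
  have hG : (G k n).map ev = g := by ext i j; simp [G, ev]
  have hU2 : (U k n).map ev = U' := by
    ext i j
    by_cases h : j ≤ i <;> simp [U, ev, h, hU]
  have hdet : IsUnit (ev.toRingHom (G k n).det) := by
    rw [RingHom.map_det]
    change IsUnit ((G k n).map ev).det
    rw [hG]
    have := congrArg Matrix.det hgg
    rw [Matrix.det_mul, Matrix.det_one] at this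
    exact IsUnit.of_mul_eq_one _ this
  let evL : L k n →+* k := IsLocalization.Away.lift (G k n).det hdet
  have hev : evL.comp (algebraMap (Par k n) (L k n)) = ev.toRingHom :=
    IsLocalization.Away.lift_comp _ hdet
  have hGU : IsUnit ((G k n).map (algebraMap _ (L k n))).det := by
    have := IsLocalization.Away.algebraMap_isUnit (S := L k n) (G k n).det
    rwa [RingHom.map_det] at this
  have hM : (M k n).map evL = Matrix.of fun i j => x (i, j) := by
    rw [hN, M]
    have h1 : ((G k n).map (algebraMap _ (L k n))).map evL = g := by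
      rw [Matrix.map_map, ← RingHom.coe_comp, hev]; exact hG
    have h2 : ((U k n).map (algebraMap _ (L k n))).map evL = U' := by
      rw [Matrix.map_map, ← RingHom.coe_comp, hev]; exact hU2
    have h3 : (((G k n).map (algebraMap _ (L k n)))⁻¹).map evL = g' := by
      have h4 := congrArg (fun A => A.map evL) (Matrix.nonsing_inv_mul _ hGU)
      simp only [Matrix.map_mul, h1] at h4
      rw [Matrix.map_one _ (map_zero _) (map_one _)] at h4
      calc _ = _ * (g * g') := by rw [hgg, mul_one]
        _ = g' := by rw [← mul_assoc, h4, one_mul]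
    rw [Matrix.map_mul, Matrix.map_mul, h1, h2, h3]
  have hcomp : evL.comp (par k n).toRingHom = (MvPolynomial.aeval x).toRingHom := by
    refine MvPolynomial.ringHom_ext (fun c => ?_) fun q => ?_
    · change evL (par k n (C c)) = MvPolynomial.aeval x (C c)
      rw [← MvPolynomial.algebraMap_eq, AlgHom.commutes, AlgHom.commutes,
        IsScalarTower.algebraMap_apply k (Par k n) (L k n), ← RingHom.comp_apply, hev]
      exact ev.commutes c
    · change evL (par k n (X q)) = MvPolynomial.aeval x (X q)
      rw [par, MvPolynomial.aeval_X, MvPolynomial.aeval_X]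
      exact congrFun (congrFun hM q.1) q.2
  have h : (MvPolynomial.aeval x).toRingHom p = 0 := by
    rw [← hcomp, RingHom.comp_apply, show (par k n).toRingHom p = 0 from hp, map_zero]
  exact h

theorem radical_cI [IsAlgClosed k] : (cI k n).radical = P k n := by
  refine le_antisymm ((isPrime_P k n).radical_le_iff.2 (cI_le_P k n)) fun p hp => ?_
  rw [← MvPolynomial.vanishingIdeal_zeroLocus_eq_radical (K := k)]
  refine MvPolynomial.mem_vanishingIdeal_iff.2 fun x hx => aeval_eq_zero_of_mem_P hp x ?_
  refine isNilpotent_of_charpoly _ ?_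
  have := (cI_le_ker_iff (MvPolynomial.aeval x : _ →ₐ[k] k).toRingHom).1
    fun q hq => MvPolynomial.mem_zeroLocus_iff.1 hx q hq
  simpa using this

theorem irreducible [IsAlgClosed k] :
    IrreducibleSpace (PrimeSpectrum (MvPolynomial (Fin n × Fin n) k ⧸ cI k n)) := by
  rw [PrimeSpectrum.irreducibleSpace_iff_isPrime_nilradical]
  have h : nilradical (MvPolynomial (Fin n × Fin n) k ⧸ cI k n) =
      (P k n).map (Ideal.Quotient.mk (cI k n)) := by
    rw [← radical_cI, nilradical,
      Ideal.map_radical_of_surjective Ideal.Quotient.mk_surjective (by rw [Ideal.mk_ker]),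
      Ideal.map_quotient_self]
    rfl
  rw [h]
  have := isPrime_P k n
  exact Ideal.map_isPrime_of_surjective Ideal.Quotient.mk_surjective
    (by rw [Ideal.mk_ker]; exact cI_le_P k n)

theorem forall_X_eq_zero {R : Type u} [CommRing R] [IsDomain R]
    (φ : MvPolynomial (Fin n × Fin n) k →+* R) (hker : cI k n ≤ RingHom.ker φ)
    (hoff : ∀ q : Fin n × Fin n, q.1 ≠ q.2 → φ (X q) = 0) (q : Fin n × Fin n) : φ (X q) = 0 := by
  classical
  have hdiag : (Matrix.of fun i j => φ (X (i, j))) = Matrix.diagonal fun i => φ (X (i, i)) := by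
    ext i j
    rcases eq_or_ne i j with rfl | h
    · simp
    · rw [Matrix.diagonal_apply_ne _ h, Matrix.of_apply]
      exact hoff (i, j) h
  have hχ := (cI_le_ker_iff φ).1 hker
  rw [hdiag, Matrix.charpoly_diagonal] at hχ
  obtain ⟨i, j⟩ := q
  rcases eq_or_ne i j with rfl | h
  · have h0 := congrArg (Polynomial.eval (φ (X (i, i)))) hχ
    rw [Polynomial.eval_prod, Finset.prod_eq_zero (Finset.mem_univ i) (by simp),
      Polynomial.eval_pow, Polynomial.eval_X] at h0
    exact eq_zero_of_pow_eq_zero h0.symm
  · exact hoff (i, j) h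

theorem eval_ker_le (Q : Ideal (MvPolynomial (Fin n × Fin n) k)) [hp : Q.IsPrime]
    (hI : cI k n ≤ Q) (hoff : ∀ q : Fin n × Fin n, q.1 ≠ q.2 → X q ∈ Q) :
    RingHom.ker (MvPolynomial.eval (0 : Fin n × Fin n → k)) ≤ Q := by
  intro p hp0
  set φ := Ideal.Quotient.mk Q
  have hX : ∀ q, φ (X q) = 0 := forall_X_eq_zero φ (by rw [Ideal.mk_ker]; exact hI)
    fun q hq => Ideal.Quotient.eq_zero_iff_mem.2 (hoff q hq)
  have h : φ = φ.comp (C.comp (MvPolynomial.eval (0 : Fin n × Fin n → k))) :=
    MvPolynomial.ringHom_ext (fun c => by simp) fun q => by simp [hX]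
  have e := RingHom.congr_fun h p
  rw [RingHom.comp_apply, RingHom.comp_apply, RingHom.mem_ker.1 hp0, C_0, map_zero] at e
  exact Ideal.Quotient.eq_zero_iff_mem.1 e

set_option maxHeartbeats 800000 in
theorem ringKrullDim_P [IsAlgClosed k] :
    ringKrullDim (MvPolynomial (Fin n × Fin n) k ⧸ P k n) = ((n ^ 2 - n : ℕ) : WithBot ℕ∞) := by
  classical
  have := isPrime_P k n
  set S := MvPolynomial (Fin n × Fin n) k
  set d := Cardinal.toNat (Algebra.trdeg k (S ⧸ P k n)) with hd
  rw [E4O.ringKrullDim_eq_trdeg k (S ⧸ P k n), ← hd]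
  have hS : Algebra.trdeg k S = ((n ^ 2 : ℕ) : Cardinal.{u}) := by
    rw [MvPolynomial.trdeg_of_isDomain, Cardinal.mk_fintype, Cardinal.lift_natCast, Fintype.card_prod,
      Fintype.card_fin, sq]
  have hle : (P k n).height ≤ n := by
    have hmin : P k n ∈ (cI k n).minimalPrimes :=
      ⟨⟨isPrime_P k n, cI_le_P k n⟩, fun J hJ _ => by
        rw [← radical_cI]; exact hJ.1.radical_le_iff.2 hJ.2⟩
    refine (Ideal.height_le_card_of_mem_minimalPrimes_span (Set.finite_range _) hmin).trans ?_
    rw [Nat.cast_le, ← Set.image_univ]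
    exact (Set.ncard_image_le Set.finite_univ).trans (by simp)
  have hge : d + n ≤ n ^ 2 := by
    let m : Ideal S := RingHom.ker (MvPolynomial.eval (0 : Fin n × Fin n → k))
    have : m.IsMaximal := RingHom.ker_isMaximal_of_surjective _ fun c => ⟨C c, MvPolynomial.eval_C c⟩
    have hPm : P k n ≤ m := fun p hp => by
      have := aeval_eq_zero_of_mem_P hp 0 ⟨1, by ext; simp⟩
      simpa [m, MvPolynomial.aeval_def, MvPolynomial.eval₂_id] using this
    set mb := m.map (Ideal.Quotient.mk (P k n)) with hmb
    have hcm : mb.comap (Ideal.Quotient.mk (P k n)) = m := by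
      rw [hmb, Ideal.comap_map_of_surjective _ Ideal.Quotient.mk_surjective, ← RingHom.ker_eq_comap_bot,
        Ideal.mk_ker, sup_eq_left]
      exact hPm
    have : mb.IsMaximal := by
      refine (Ideal.map_eq_top_or_isMaximal_of_surjective _ Ideal.Quotient.mk_surjective ‹m.IsMaximal›).resolve_left fun h => ?_
      rw [← hmb] at h
      rw [h, Ideal.comap_top] at hcm
      exact (inferInstance : m.IsMaximal).ne_top hcm.symm
    have hmin : mb ∈ (Ideal.span ((fun q : Fin n × Fin n => Ideal.Quotient.mk (P k n) (X q)) ''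
        {q | q.1 ≠ q.2})).minimalPrimes := by
      refine ⟨⟨inferInstance, ?_⟩, fun J hJ _ => ?_⟩
      · rw [Ideal.span_le]
        rintro _ ⟨q, _, rfl⟩
        exact Ideal.mem_map_of_mem _ (show X q ∈ RingHom.ker (MvPolynomial.eval (0 : Fin n × Fin n → k)) from MvPolynomial.eval_X q)
      · rw [hmb, Ideal.map_le_iff_le_comap]
        exact eval_ker_le (J.comap (Ideal.Quotient.mk (P k n))) (hp := hJ.1.comap _)
          (fun q hq => Ideal.mem_comap.2 (by
            rw [Ideal.Quotient.eq_zero_iff_mem.2 (cI_le_P k n hq)]; exact J.zero_mem))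
          (fun q hq => Ideal.mem_comap.2 (hJ.2 (Ideal.subset_span ⟨q, hq, rfl⟩)))
    have hh := Ideal.height_le_card_of_mem_minimalPrimes_span (Set.toFinite _) hmin
    rw [E4O.height_maximal_eq k (S ⧸ P k n) mb, ← hd, Nat.cast_le] at hh
    have hcard : {q : Fin n × Fin n | q.1 ≠ q.2}.ncard = n ^ 2 - n := by
      rw [Set.ncard_eq_toFinset_card', Set.toFinset_ofPred]
      have := Finset.offDiag_card (Finset.univ : Finset (Fin n))
      rw [Finset.card_univ, Fintype.card_fin] at this
      rw [sq, ← this]
      congr 1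
      ext q
      simp [Finset.mem_offDiag]
    have h2 := hh.trans (Set.ncard_image_le (Set.toFinite _))
    rw [hcard] at h2
    have : n ≤ n ^ 2 := Nat.le_self_pow two_ne_zero n
    omega
  have hh := E4O.height_add_trdeg_eq k S (P k n)
  rw [hS, E4O.trdeg_eq_natCast k (S ⧸ P k n), ← hd] at hh
  obtain ⟨e, he⟩ := ENat.ne_top_iff_exists.1 (ne_top_of_le_ne_top (ENat.natCast_ne_top n) hle)
  rw [← he] at hh hle
  have he' : e ≤ n := by exact_mod_cast hle
  rw [Cardinal.ofENat_nat, ← Nat.cast_add, Nat.cast_inj] at hh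
  have : d = n ^ 2 - n := by omega
  rw [this]

theorem ringKrullDim_cI [IsAlgClosed k] :
    ringKrullDim (MvPolynomial (Fin n × Fin n) k ⧸ cI k n) = ((n ^ 2 - n : ℕ) : WithBot ℕ∞) := by
  rw [ringKrullDim_quotient, ← PrimeSpectrum.zeroLocus_radical, radical_cI, ← ringKrullDim_quotient,
    ringKrullDim_P]

end Groth.Agent.NilCone31
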