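import Mathlib.LinearAlgebra.Basis.Fin
import Mathlib.LinearAlgebra.Dual.Lemmas
import Mathlib.LinearAlgebra.Matrix.Charpoly.Coeff
import Mathlib.LinearAlgebra.Matrix.ToLin
import Mathlib.LinearAlgebra.Matrix.Basis
import Mathlib.LinearAlgebra.Matrix.Block
import Mathlib.RingTheory.Nilpotent.Basic

/-!
Nilpotent endomorphisms are strictly upper triangular in a suitable basis.
-/

set_option autoImplicit false
universe u v

namespace Groth.Agent.NilCone31

open Module

theorem exists_basis_strict {k : Type u} [Field k] :
    ∀ (n : ℕ) {V : Type v} [AddCommGroup V] [Module k V] [Module.Finite k V],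
      finrank k V = n → ∀ f : V →ₗ[k] V, IsNilpotent f →
      ∃ b : Basis (Fin n) k V, ∀ i j, j ≤ i → b.repr (f (b j)) i = 0 := by
  intro n
  induction n with
  | zero =>
    intro V _ _ _ hn f _
    exact ⟨finBasisOfFinrankEq k V hn, fun i => i.elim0⟩
  | succ n ih =>
    intro V _ _ _ hn f hf
    have hne : LinearMap.range f < ⊤ := by
      refine lt_top_iff_ne_top.2 fun h => ?_
      obtain ⟨m, hm⟩ := hf
      have hs : Function.Surjective ⇑(f ^ m) := by
        rw [Module.End.coe_pow]
        exact (LinearMap.range_eq_top.1 h).iterate m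
      have : Nontrivial V := Module.nontrivial_of_finrank_eq_succ hn
      obtain ⟨v, hv⟩ := exists_ne (0 : V)
      obtain ⟨w, hw⟩ := hs v
      rw [hm] at hw
      exact hv hw.symm
    obtain ⟨φ, hφ0, hφ⟩ := Submodule.exists_le_ker_of_lt_top _ hne
    set H := LinearMap.ker φ with hH
    have hinv : ∀ x ∈ H, f x ∈ H := fun x _ => hφ (LinearMap.mem_range_self f x)
    have hHn : finrank k H = n := by
      have := LinearMap.finrank_range_add_finrank_ker φ
      rw [LinearMap.range_eq_top.2 (LinearMap.surjective hφ0), finrank_top, finrank_self, hn] at this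
      rw [hH]
      omega
    have hnil : IsNilpotent (f.restrict hinv) := by
      obtain ⟨m, hm⟩ := hf
      refine ⟨m, ?_⟩
      rw [Module.End.pow_restrict]
      ext x
      simp [hm]
    obtain ⟨b, hb⟩ := ih hHn (f.restrict hinv) hnil
    obtain ⟨y, hy⟩ : ∃ y, φ y = 1 := LinearMap.surjective hφ0 1
    let B : Basis (Fin (n + 1)) k V := Basis.mkFinSnoc b y
      (fun c x hx hc => by
        have hx0 : φ x = 0 := hx
        simpa [hy, hx0] using congrArg φ hc)
      (fun z => ⟨-φ z, by simp [hH, hy]⟩)
    have hBc : ∀ i : Fin n, B i.castSucc = (b i : V) := fun i => by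
      simp [B, Basis.coe_mkFinSnoc]
    -- coordinates of elements of H
    have hrep : ∀ x : H, ∀ i : Fin n, B.repr (x : V) i.castSucc = b.repr x i := by
      intro x i
      have : (x : V) = ∑ l, b.repr x l • B l.castSucc := by
        have h := congrArg H.subtype (b.sum_repr x)
        rw [map_sum] at h
        simp only [map_smul, Submodule.subtype_apply] at h
        simp only [hBc]
        exact h.symm
      rw [this]
      simp [map_sum, Basis.repr_self, Finsupp.single_apply]
    have hlast : ∀ x : H, B.repr (x : V) (Fin.last n) = 0 := by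
      intro x
      have : (x : V) = ∑ l, b.repr x l • B l.castSucc := by
        have h := congrArg H.subtype (b.sum_repr x)
        rw [map_sum] at h
        simp only [map_smul, Submodule.subtype_apply] at h
        simp only [hBc]
        exact h.symm
      rw [this]
      simp [map_sum, Basis.repr_self, Fin.castSucc_ne_last]
    refine ⟨B, fun i j hij => ?_⟩
    cases i using Fin.lastCases with
    | last => exact hlast ⟨f (B j), hφ (LinearMap.mem_range_self f _)⟩
    | cast i =>
      cases j using Fin.lastCases with
      | last => exact absurd hij (not_le.2 (Fin.castSucc_lt_last i))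
      | cast j =>
        rw [hBc]
        have : f (b j : V) = ((f.restrict hinv (b j) : H) : V) := rfl
        rw [this, hrep]
        exact hb i j (by simpa using hij)

/-- A nilpotent matrix is conjugate to a strictly upper triangular one. -/
theorem exists_conj_strict {k : Type u} [Field k] {n : ℕ} (N : Matrix (Fin n) (Fin n) k)
    (hN : IsNilpotent N) :
    ∃ g g' U : Matrix (Fin n) (Fin n) k, g * g' = 1 ∧ (∀ i j, j ≤ i → U i j = 0) ∧ N = g * U * g' := by
  let e := Pi.basisFun k (Fin n)
  have hf : IsNilpotent (Matrix.toLinAlgEquiv' N) := hN.map Matrix.toLinAlgEquiv'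
  obtain ⟨b, hb⟩ := exists_basis_strict n (Module.finrank_fin_fun k) _ hf
  refine ⟨e.toMatrix b, b.toMatrix e, LinearMap.toMatrix b b (Matrix.toLinAlgEquiv' N),
    Basis.toMatrix_mul_toMatrix_flip _ _, fun i j h => ?_, ?_⟩
  · rw [LinearMap.toMatrix_apply]
    exact hb i j h
  · rw [basis_toMatrix_mul_linearMap_toMatrix_mul_basis_toMatrix]
    simp [e, LinearMap.toMatrix_eq_toMatrix']
    exact (LinearMap.toMatrixAlgEquiv'_toLinAlgEquiv' N).symm

end Groth.Agent.NilCone31
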